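import Mathlib
import Cfsg.Prelude.Def_Transfer
import Cfsg.Agent.Lib.PGroup.Frattini
import Cfsg.Agent.Lib.PGroup.Extraspecial
import Cfsg.Agent.Lib.Core.Nilpotent

/-!
Generalized extraspecial groups with an abelian maximal subgroup of exponent `p` and an element of
order `p` outside it split as (dihedral of order 8, or `p^{1+2}`) times an elementary abelian group.

Written by helper60.
-/

set_option autoImplicit false

namespace Cfsg.Agent.Lib.Resistant

open Subgroup
open scoped commutatorElement

variable {P : Type*} [Group P] [Finite P] {p : ℕ} [Fact p.Prime]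

theorem commutator_le_center_of_card (hP : IsPGroup p P) (hc : Nat.card (commutator P) = p) :
    commutator P ≤ center P := by
  have := hP.isNilpotent
  have hne : commutator P ≠ ⊥ := by
    intro h
    rw [h, card_bot] at hc
    exact (Fact.out : p.Prime).ne_one hc.symm
  have h2 := Nilp.inf_center_ne_bot_of_normal hne
  have hdvd : Nat.card ↥(commutator P ⊓ center P) ∣ p := hc ▸ card_dvd_of_le inf_le_left
  have hone : Nat.card ↥(commutator P ⊓ center P) ≠ 1 := fun h => h2 (card_eq_one.1 h)
  have heq := ((Nat.dvd_prime Fact.out).1 hdvd).resolve_left hone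
  rw [← inf_eq_left]
  exact eq_of_le_of_card_ge inf_le_left (by rw [heq, hc])

theorem commutatorElement_mem (a b : P) : ⁅a, b⁆ ∈ commutator P := by
  rw [_root_.commutator_def]
  exact commutator_mem_commutator (mem_top a) (mem_top b)

theorem pow_prime_eq_one_of_mem (hc : Nat.card (commutator P) = p) {z : P}
    (hz : z ∈ commutator P) : z ^ p = 1 := by
  have : (⟨z, hz⟩ : commutator P) ^ p = 1 := by rw [← hc]; exact pow_card_eq_one'
  exact congrArg Subtype.val this

theorem zpowers_eq_commutator (hc : Nat.card (commutator P) = p) {z : P} (hz : z ∈ commutator P)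
    (hz1 : z ≠ 1) : zpowers z = commutator P := by
  refine eq_of_le_of_card_ge (zpowers_le.2 hz) ?_
  rw [Nat.card_zpowers, hc, orderOf_eq_prime (pow_prime_eq_one_of_mem hc hz) hz1]

/-- `g ↦ ⁅g, y⁆`. -/
def commHom (hP : IsPGroup p P) (hc : Nat.card (commutator P) = p) (y : P) : P →* commutator P where
  toFun g := ⟨⁅g, y⁆, commutatorElement_mem g y⟩
  map_one' := Subtype.ext (commutatorElement_one_left y)
  map_mul' a b := Subtype.ext (Extraspecial.commutator_mul_left
    (commutator_le_center_of_card hP hc (commutatorElement_mem b y)))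

theorem ker_commHom (hP : IsPGroup p P) (hc : Nat.card (commutator P) = p) (y : P) :
    (commHom hP hc y).ker = centralizer ({y} : Set P) := by
  ext g
  rw [MonoidHom.mem_ker, mem_centralizer_singleton_iff]
  show (⟨⁅g, y⁆, _⟩ : commutator P) = 1 ↔ g * y = y * g
  rw [← commutatorElement_eq_one_iff_mul_comm]
  exact ⟨fun h => congrArg Subtype.val h, fun h => Subtype.ext h⟩

/-- The centralizer of a non-central element has index `p`. -/
theorem index_centralizer (hP : IsPGroup p P) (hc : Nat.card (commutator P) = p) {y : P}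
    (hy : y ∉ center P) : (centralizer ({y} : Set P)).index = p := by
  rw [← ker_commHom hP hc y, index_ker]
  have hne : Nat.card (commHom hP hc y).range ≠ 1 := by
    intro h
    refine hy (mem_center_iff.2 fun g => ?_)
    have hb := card_eq_one.1 h
    have : commHom hP hc y g = 1 := mem_bot.1 (hb ▸ ⟨g, rfl⟩)
    exact commutatorElement_eq_one_iff_mul_comm.1 (congrArg Subtype.val this)
  have hdvd := card_subgroup_dvd_card (commHom hP hc y).range
  rw [hc] at hdvd
  exact ((Nat.dvd_prime Fact.out).1 hdvd).resolve_left hne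

/-- An elementary abelian subgroup containing `Z` has a complement to `Z` and a retraction of `P`
onto it, when `P / Z` is elementary abelian. -/
theorem exists_retraction (hc : Nat.card (commutator P) = p) (hpow : ∀ g : P, g ^ p ∈ commutator P)
    (Zp : Subgroup P) (hab : ∀ a ∈ Zp, ∀ b ∈ Zp, a * b = b * a) (hexp : ∀ a ∈ Zp, a ^ p = 1)
    (hle : commutator P ≤ Zp) :
    ∃ (A : Subgroup P) (r : P →* A), A ≤ Zp ∧ (∀ a : A, r a = a) ∧
      Nat.card A * p = Nat.card Zp := by
  classical
  letI : CommGroup Zp :=
    { (inferInstance : Group Zp) with mul_comm := fun a b => Subtype.ext (hab _ a.2 _ b.2) }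
  letI : Module (ZMod p) (Additive Zp) := AddCommGroup.zmodModule (n := p) fun x =>
    congrArg Additive.ofMul (Subtype.ext (hexp _ (Additive.toMul x).2) : (Additive.toMul x) ^ p = 1)
  let V := Abelianization P
  letI : Module (ZMod p) (Additive V) := AddCommGroup.zmodModule (n := p) fun x => by
    obtain ⟨g, hg⟩ := QuotientGroup.mk'_surjective (commutator P) (Additive.toMul x)
    have : (Additive.toMul x) ^ p = 1 :=
      (congrArg (fun t : V => t ^ p) hg.symm).trans
        ((map_pow (QuotientGroup.mk' (commutator P)) g p).symm.trans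
          ((QuotientGroup.eq_one_iff _).2 (hpow g)))
    exact congrArg Additive.ofMul this
  let j : Additive Zp →ₗ[ZMod p] Additive V :=
    (MonoidHom.toAdditive (Abelianization.of.comp Zp.subtype)).toZModLinearMap p
  obtain ⟨C, hC⟩ := Submodule.exists_isCompl (LinearMap.ker j)
  have hinj : LinearMap.ker (j.comp C.subtype) = ⊥ := by
    rw [Submodule.eq_bot_iff]
    intro x hx
    have hxk : (x : Additive Zp) ∈ LinearMap.ker j := hx
    exact Subtype.ext (Submodule.disjoint_def.1 hC.disjoint _ hxk x.2)
  obtain ⟨l, hl⟩ := LinearMap.exists_leftInverse_of_injective _ hinj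
  let ρ : P →* Zp :=
    (MonoidHom.toAdditive.symm (C.subtype.comp l).toAddMonoidHom).comp Abelianization.of
  let AZ : Subgroup Zp := C.toAddSubgroup.toSubgroup'
  let A : Subgroup P := AZ.map Zp.subtype
  have hρC : ∀ g, (Additive.ofMul (ρ g) : Additive Zp) ∈ C := fun g => by
    exact Submodule.coe_mem _
  have hρ : ∀ g, ((ρ g : Zp) : P) ∈ A := fun g => ⟨ρ g, hρC g, rfl⟩
  refine ⟨A, (Zp.subtype.comp ρ).codRestrict A hρ, map_subtype_le _, ?_, ?_⟩
  · rintro ⟨_, a, ha, rfl⟩
    refine Subtype.ext ?_
    show ((ρ (a : P) : Zp) : P) = (a : P)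
    refine congrArg Subtype.val ?_
    have h1 := LinearMap.congr_fun hl ⟨Additive.ofMul a, ha⟩
    exact congrArg (fun x : C => Additive.toMul (x : Additive Zp)) h1
  · have hker : Nat.card (LinearMap.ker j) = p := by
      have e : LinearMap.ker j ≃ (commutator P).subgroupOf Zp :=
        { toFun := fun x => ⟨Additive.toMul (x : Additive Zp),
            mem_subgroupOf.2 ((QuotientGroup.eq_one_iff (N := commutator P) _).1
              (congrArg Additive.toMul (LinearMap.mem_ker.1 x.2)))⟩
          invFun := fun x => ⟨Additive.ofMul (x : Zp),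
            LinearMap.mem_ker.2 (congrArg Additive.ofMul
              ((QuotientGroup.eq_one_iff (N := commutator P) _).2 (mem_subgroupOf.1 x.2)))⟩
          left_inv := fun x => rfl
          right_inv := fun x => rfl }
      rw [Nat.card_congr e, Nat.card_congr (subgroupOfEquivOfLe hle).toEquiv, hc]
    have h2 := Nat.card_congr (Submodule.prodEquivOfIsCompl _ _ hC).toEquiv
    rw [Nat.card_prod, hker] at h2
    rw [card_map_of_injective Zp.subtype_injective, mul_comm]
    exact h2

/-- A group of order 8 generated by two involutions that do not commute is dihedral. -/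
theorem nonempty_dihedral {K : Type*} [Group K] [Finite K] (hK : Nat.card K = 8) (v w : K)
    (hv : v * v = 1) (hw : w * w = 1) (hne : v * w ≠ w * v) :
    Nonempty (K ≃* DihedralGroup 4) := by
  set a := w * v with ha
  have hvi : v⁻¹ = v := inv_eq_of_mul_eq_one_right hv
  have hwi : w⁻¹ = w := inv_eq_of_mul_eq_one_right hw
  have hinv : v * a * v⁻¹ = a⁻¹ := by
    rw [ha, hvi, mul_inv_rev, hvi, hwi, mul_assoc, mul_assoc, hv, mul_one]
  have ha2 : a * a ≠ 1 := by
    intro h
    have h3 : w * v = v⁻¹ * w⁻¹ := by rw [← mul_inv_rev]; exact eq_inv_of_mul_eq_one_left h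
    rw [hvi, hwi] at h3
    exact hne h3.symm
  have ha4 : orderOf a = 4 := by
    have hd : orderOf a ∣ 2 ^ 3 := by
      rw [show (2 : ℕ) ^ 3 = Nat.card K by rw [hK]; norm_num]
      exact orderOf_dvd_natCard a
    obtain ⟨k, hk, hkk⟩ := (Nat.dvd_prime_pow Nat.prime_two).1 hd
    interval_cases k
    · have h1 : orderOf a = 1 := by simpa using hkk
      exact absurd (by rw [orderOf_eq_one_iff.1 h1, mul_one] : a * a = 1) ha2
    · exact absurd (by rw [← pow_two, ← show orderOf a = 2 by simpa using hkk, pow_orderOf_eq_one] :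
        a * a = 1) ha2
    · simpa using hkk
    · exfalso
      have hcy : zpowers a = ⊤ := eq_top_of_card_eq _ (by
        rw [Nat.card_zpowers, hkk, hK]; norm_num)
      have hvm : v ∈ zpowers a := hcy ▸ mem_top v
      obtain ⟨i, hi⟩ := hvm
      have hcm : v * a = a * v := by rw [← hi]; exact ((Commute.refl a).zpow_left i).eq
      rw [hcm, mul_inv_cancel_right] at hinv
      exact ha2 (mul_eq_one_iff_eq_inv.2 hinv)
  let pw : ZMod 4 → K := fun i => a ^ i.val
  have hadd : ∀ i j : ZMod 4, pw (i + j) = pw i * pw j := by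
    intro i j
    show a ^ (i + j).val = a ^ i.val * a ^ j.val
    rw [← pow_add, ZMod.val_add, ← pow_mod_orderOf a (i.val + j.val), ha4]
  have hsub : ∀ i j : ZMod 4, pw (j - i) = (pw i)⁻¹ * pw j := by
    intro i j
    rw [eq_inv_mul_iff_mul_eq, ← hadd, add_sub_cancel]
  have hflip : ∀ i : ZMod 4, pw i * v = v * (pw i)⁻¹ := by
    intro i
    have h1 : v * pw i * v⁻¹ = (pw i)⁻¹ := by
      show v * a ^ i.val * v⁻¹ = (a ^ i.val)⁻¹
      rw [← conj_pow, hinv, inv_pow]
    rw [← h1, hvi]
    simp only [← mul_assoc, hv, one_mul]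
  let f : DihedralGroup 4 → K := fun x => match x with
    | .r i => pw i
    | .sr i => v * pw i
  have hmul : ∀ x y, f (x * y) = f x * f y := by
    rintro (i | i) (j | j)
    · rw [DihedralGroup.r_mul_r]; exact hadd i j
    · rw [DihedralGroup.r_mul_sr]
      show v * pw (j - i) = pw i * (v * pw j)
      rw [← mul_assoc (pw i), hflip, mul_assoc, hsub]
    · rw [DihedralGroup.sr_mul_r]
      show v * pw (i + j) = v * pw i * pw j
      rw [hadd, mul_assoc]
    · rw [DihedralGroup.sr_mul_sr]
      show pw (j - i) = v * pw i * (v * pw j)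
      rw [hsub, ← mul_assoc, mul_assoc v (pw i) v, hflip, ← mul_assoc, hv, one_mul]
  let φ : DihedralGroup 4 →* K := MonoidHom.mk' f hmul
  have hinj : Function.Injective φ := by
    rw [injective_iff_map_eq_one]
    rintro (i | i) hx
    · change a ^ i.val = 1 at hx
      have hlt : i.val < orderOf a := by rw [ha4]; exact ZMod.val_lt i
      have : i.val = 0 := by
        by_contra h0
        exact pow_ne_one_of_lt_orderOf h0 hlt hx
      rw [(ZMod.val_eq_zero i).1 this]
      rfl
    · change v * a ^ i.val = 1 at hx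
      exfalso
      have hcm : v * a = a * v := by
        rw [eq_inv_of_mul_eq_one_left hx]
        exact (((Commute.refl a).pow_left _).inv_left).eq
      rw [hcm, mul_inv_cancel_right] at hinv
      exact ha2 (mul_eq_one_iff_eq_inv.2 hinv)
  have hcard : Nat.card (DihedralGroup 4) = Nat.card K := by rw [DihedralGroup.nat_card, hK]
  exact ⟨(MulEquiv.ofBijective φ
    ((Nat.bijective_iff_injective_and_card φ).2 ⟨hinj, hcard⟩)).symm⟩

/-- A non-abelian group of order `p ^ 3` and exponent `p` is extraspecial. -/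
theorem isExtraspecial_of_card_cube {E : Type*} [Group E] [Finite E] (hE : Nat.card E = p ^ 3)
    (hexp : ∀ e : E, e ^ p = 1) (hna : ∃ a b : E, a * b ≠ b * a) :
    Cfsg.IsExtraspecial p E ∧ Monoid.exponent E = p := by
  have hp := (Fact.out : p.Prime)
  have hG : IsPGroup p E := fun e => ⟨1, by rw [pow_one]; exact hexp e⟩
  have := hG.isNilpotent
  haveI : Nontrivial E := Finite.one_lt_card_iff_nontrivial.1
    (by rw [hE]; exact Nat.one_lt_pow (by norm_num) hp.one_lt)
  obtain ⟨a, b, hab⟩ := hna
  -- the centre has order `p`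
  have hZdvd : Nat.card (center E) ∣ p ^ 3 := hE ▸ card_subgroup_dvd_card _
  obtain ⟨k, hk, hkk⟩ := (Nat.dvd_prime_pow hp).1 hZdvd
  have hk0 : k ≠ 0 := by
    rintro rfl
    rw [pow_zero] at hkk
    exact hG.bot_lt_center.ne (card_eq_one.1 hkk).symm
  have hk2 : k ≤ 1 := by
    by_contra hk2
    have hidx : (center E).index = p ^ (3 - k) := by
      have h1 := card_mul_index (center E)
      rw [hkk, hE] at h1
      exact Nat.eq_of_mul_eq_mul_left (pow_pos hp.pos k)
        (by rw [h1, ← pow_add, Nat.add_sub_cancel' hk])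
    haveI : IsCyclic (E ⧸ center E) := by
      interval_cases k
      · exact isCyclic_of_prime_card (p := p) (by rw [← index_eq_card, hidx]; norm_num)
      · haveI : Subsingleton (E ⧸ center E) := (Nat.card_eq_one_iff_unique.1
          (by rw [← index_eq_card, hidx]; norm_num)).1
        infer_instance
    haveI := commutative_of_cyclic_center_quotient (QuotientGroup.mk' (center E))
      (QuotientGroup.ker_mk' (center E)).le
    exact hab (this a b)
  have hZ : Nat.card (center E) = p := by
    rw [hkk, show k = 1 by omega, pow_one]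
  have hidx : (center E).index = p ^ 2 := by
    have h1 := card_mul_index (center E)
    rw [hZ, hE] at h1
    exact Nat.eq_of_mul_eq_mul_left hp.pos (by rw [h1]; ring)
  have hle : commutator E ≤ center E := by
    rw [_root_.commutator_def, Subgroup.commutator_le]
    intro x _ y _
    rw [← QuotientGroup.eq_one_iff, ← QuotientGroup.mk'_apply, map_commutatorElement,
      commutatorElement_eq_one_iff_mul_comm]
    exact IsPGroup.commutative_of_card_eq_prime_sq (by rw [← index_eq_card, hidx]) _ _
  have hne : commutator E ≠ ⊥ := fun h =>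
    hab (commutatorElement_eq_one_iff_mul_comm.1 (mem_bot.1 (h ▸ commutatorElement_mem a b)))
  have hcomm : commutator E = center E := by
    refine eq_of_le_of_card_ge hle ?_
    have h1 : Nat.card (commutator E) ∣ p := hZ ▸ card_dvd_of_le hle
    rw [((Nat.dvd_prime hp).1 h1).resolve_left fun h => hne (card_eq_one.1 h), hZ]
  have hfr : frattini E = center E := by
    refine le_antisymm ?_ (hcomm ▸ PFrattini.commutator_le_frattini hG)
    exact PFrattini.frattini_le hle fun x => by rw [hexp x]; exact one_mem _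
  refine ⟨⟨⟨hG, hfr, hcomm⟩, hZ⟩, ?_⟩
  have hd : Monoid.exponent E ∣ p := Monoid.exponent_dvd_of_forall_pow_eq_one hexp
  refine ((Nat.dvd_prime hp).1 hd).resolve_left fun h1 => hab ?_
  have h2 : ∀ e : E, e = 1 := fun e => by
    have := Monoid.pow_exponent_eq_one e
    rwa [h1, pow_one] at this
  rw [h2 a, h2 b]

/-- Type-0 copy of a finite group. -/
theorem exists_type_zero_commGroup (A : Type*) [Group A] [Finite A]
    (hA : ∀ a b : A, a * b = b * a) :
    ∃ (A' : Type) (_ : CommGroup A'), Nonempty (A ≃* A') := by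
  letI : CommGroup A := { (inferInstance : Group A) with mul_comm := hA }
  obtain ⟨n, ⟨e₀⟩⟩ := Finite.exists_equiv_fin A
  let e := e₀.trans (Equiv.subtypeUnivEquiv (p := fun _ : Fin n => True) fun _ => trivial).symm
  letI : CommGroup {_i : Fin n // True} := e.symm.commGroup
  exact ⟨{_i : Fin n // True}, inferInstance, ⟨(Equiv.mulEquiv e.symm).symm⟩⟩

theorem exists_type_zero_group (E : Type*) [Group E] [Finite E] :
    ∃ (E' : Type) (_ : Group E'), Nonempty (E ≃* E') := by
  obtain ⟨n, ⟨e₀⟩⟩ := Finite.exists_equiv_fin E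
  let e := e₀.trans (Equiv.subtypeUnivEquiv (p := fun _ : Fin n => True) fun _ => trivial).symm
  letI : Group {_i : Fin n // True} := e.symm.group
  exact ⟨{_i : Fin n // True}, inferInstance, ⟨(Equiv.mulEquiv e.symm).symm⟩⟩

/-- The splitting. -/
theorem exists_split (hP : IsPGroup p P) (hΦ : frattini P = commutator P)
    (hc : Nat.card (commutator P) = p) {y : P} (hy : y ∉ center P)
    (hCab : ∀ a ∈ centralizer ({y} : Set P), ∀ b ∈ centralizer ({y} : Set P), a * b = b * a)
    (hCexp : ∀ a ∈ centralizer ({y} : Set P), a ^ p = 1)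
    {w : P} (hw : w ∉ centralizer ({y} : Set P)) (hwp : w ^ p = 1) :
    (p = 2 → ∃ (A : Type) (_ : CommGroup A), (∀ a : A, a ^ 2 = 1) ∧
        Nonempty (P ≃* DihedralGroup 4 × A)) ∧
      (p ≠ 2 → ∃ (E : Type) (_ : Group E) (A : Type) (_ : CommGroup A),
        Cfsg.IsExtraspecial p E ∧ Nat.card E = p ^ 3 ∧ Monoid.exponent E = p ∧
          (∀ a : A, a ^ p = 1) ∧ Nonempty (P ≃* E × A)) := by
  have hp := (Fact.out : p.Prime)
  set C := centralizer ({y} : Set P) with hCdef
  have hCidx : C.index = p := index_centralizer hP hc hy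
  have hcc := commutator_le_center_of_card hP hc
  have hyC : y ∈ C := mem_centralizer_singleton_iff.2 rfl
  have hCco : C ⊔ zpowers w = ⊤ := by
    have hlt : C < C ⊔ zpowers w := lt_of_le_of_ne le_sup_left fun h =>
      hw (h ▸ mem_sup_right (mem_zpowers w))
    have h1 := index_dvd_of_le hlt.le
    rw [hCidx] at h1
    rcases (Nat.dvd_prime hp).1 h1 with h2 | h2
    · exact index_eq_one.1 h2
    · have h3 := index_strictAnti hlt
      rw [h2, hCidx] at h3
      exact absurd h3 (lt_irrefl p)
  haveI : C.Normal := Subgroup.Normal.of_commutator_le _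
    (fun z hz => mem_centralizer_singleton_iff.2 ((mem_center_iff.1 (hcc hz) y).symm))
  have hdec : ∀ g : P, ∃ c ∈ C, ∃ i : ℤ, g = c * w ^ i := fun g => by
    obtain ⟨c, hcC, u, ⟨i, rfl⟩, hg⟩ :=
      mem_sup_of_normal_left.1 (show g ∈ C ⊔ zpowers w by rw [hCco]; exact mem_top g)
    exact ⟨c, hcC, i, hg.symm⟩
  have hcenC : center P ≤ C := fun z hz =>
    mem_centralizer_singleton_iff.2 ((mem_center_iff.1 hz y).symm)
  have hker : ∀ c ∈ C, c * w = w * c → c ∈ center P := by
    intro c hcC hcw
    refine mem_center_iff.2 fun g => ?_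
    obtain ⟨d, hd, i, rfl⟩ := hdec g
    have h1 : Commute c w := hcw
    rw [mul_assoc, ← (h1.zpow_right i).eq, ← mul_assoc, hCab d hd c hcC, mul_assoc]
  have hwc : w ∉ center P := fun h => hw (hcenC h)
  -- order
  have hZC : (center P).relIndex C = p := by
    have h1 : center P = centralizer ({w} : Set P) ⊓ C := le_antisymm
      (le_inf (fun z hz => mem_centralizer_singleton_iff.2 ((mem_center_iff.1 hz w).symm)) hcenC)
      fun c hc => hker c hc.2 (mem_centralizer_singleton_iff.1 hc.1)
    have h2 : (centralizer ({w} : Set P) ⊓ C).relIndex C = p := by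
      rw [inf_relIndex_right]
      have h3 : (centralizer ({w} : Set P)).relIndex C ∣ (centralizer ({w} : Set P)).index := by
        haveI : (centralizer ({w} : Set P)).Normal := Subgroup.Normal.of_commutator_le _
          (fun z hz => mem_centralizer_singleton_iff.2 ((mem_center_iff.1 (hcc hz) w).symm))
        exact relIndex_dvd_index_of_normal _ _
      rw [index_centralizer hP hc hwc] at h3
      refine ((Nat.dvd_prime hp).1 h3).resolve_left fun h4 => hw ?_
      exact mem_centralizer_singleton_iff.2
        (mem_centralizer_singleton_iff.1 (relIndex_eq_one.1 h4 hyC)).symm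
    rw [h1]; exact h2
  have hpow : ∀ g : P, g ^ p ∈ commutator P := fun g => hΦ ▸ PFrattini.pow_mem_frattini hP g
  obtain ⟨A, r, hA, hr, hAcard⟩ := exists_retraction hc hpow (center P)
    (fun a ha b _ => (mem_center_iff.1 ha b).symm) (fun a ha => hCexp a (hcenC ha)) hcc
  set K := r.ker with hK
  have hcomp : ∀ g : P, g * ((r g : A) : P)⁻¹ ∈ K := fun g => by
    have h1 : r ((r g : A) : P) = r g := hr (r g)
    rw [hK, MonoidHom.mem_ker, map_mul, map_inv, h1, mul_inv_cancel]
  let f : P →* K × A :=
    { toFun := fun g => (⟨g * ((r g : A) : P)⁻¹, hcomp g⟩, r g)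
      map_one' := by ext <;> simp
      map_mul' := fun a b => by
        refine Prod.ext (Subtype.ext ?_) (map_mul r a b)
        show a * b * ((r (a * b) : A) : P)⁻¹ = a * ((r a : A) : P)⁻¹ * (b * ((r b : A) : P)⁻¹)
        have hca : ∀ g : P, g * ((r a : A) : P)⁻¹ = ((r a : A) : P)⁻¹ * g := fun g =>
          mem_center_iff.1 ((center P).inv_mem (hA (r a).2)) g
        rw [map_mul, Subgroup.coe_mul, mul_inv_rev, mul_assoc a _ (b * _), ← mul_assoc _ b,
          ← hca b]
        simp only [mul_assoc]
        congr 2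
        exact (hca _) }
  have hfinj : Function.Injective f := by
    rw [injective_iff_map_eq_one]
    intro g hg
    have h1 : r g = 1 := congrArg Prod.snd hg
    have h2 : g * ((r g : A) : P)⁻¹ = 1 := congrArg (fun x : K × A => (x.1 : P)) hg
    simpa [h1] using h2
  have hfsurj : Function.Surjective f := by
    rintro ⟨⟨k, hk⟩, a⟩
    refine ⟨k * a, ?_⟩
    have h1 : r (k * a) = a := by rw [map_mul, hr, (MonoidHom.mem_ker.1 hk), one_mul]
    refine Prod.ext (Subtype.ext ?_) h1
    show k * a * ((r (k * a) : A) : P)⁻¹ = k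
    rw [h1, mul_inv_cancel_right]
  let e := MulEquiv.ofBijective f ⟨hfinj, hfsurj⟩
  have hKcard : Nat.card K = p ^ 3 := by
    have h1 := Nat.card_congr e.toEquiv
    rw [Nat.card_prod] at h1
    have h2 : Nat.card P = p ^ 3 * Nat.card A := by
      have h3 := card_mul_index C
      rw [hCidx] at h3
      have h4 : Nat.card (center P) * (center P).relIndex C = Nat.card C := by
        rw [← Nat.card_congr (subgroupOfEquivOfLe hcenC).toEquiv]
        exact card_mul_index _
      rw [hZC] at h4
      rw [← h3, ← h4, ← hAcard]; ring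
    exact Nat.eq_of_mul_eq_mul_right Nat.card_pos (h1.symm.trans h2)
  have hexpA : ∀ a : A, a ^ p = 1 := fun a => Subtype.ext (hCexp _ (hcenC (hA a.2)))
  have hna : ∃ a b : K, a * b ≠ b * a := by
    refine ⟨(e y).1, (e w).1, fun h => hw ?_⟩
    refine mem_centralizer_singleton_iff.2 (e.injective ?_).symm
    rw [map_mul, map_mul]
    refine Prod.ext h ?_
    exact Subtype.ext ((mem_center_iff.1 (hA (e w).2.2) _))
  obtain ⟨A', iA, ⟨eA⟩⟩ := exists_type_zero_commGroup A
    (fun a b => Subtype.ext ((mem_center_iff.1 (hA b.2) a)))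
  have hexpA' : ∀ a : A', a ^ p = 1 := fun a => by
    obtain ⟨b, rfl⟩ := eA.surjective a
    rw [← map_pow, hexpA, map_one]
  refine ⟨fun h2 => ?_, fun hodd => ?_⟩
  · subst h2
    have hv : ((e y).1 : K) * (e y).1 = 1 := by
      rw [← pow_two, ← Prod.pow_fst, ← map_pow, hCexp y hyC, map_one]; rfl
    have hw' : ((e w).1 : K) * (e w).1 = 1 := by
      rw [← pow_two, ← Prod.pow_fst, ← map_pow, hwp, map_one]; rfl
    have hne : ((e y).1 : K) * (e w).1 ≠ (e w).1 * (e y).1 := by
      intro h
      refine hw (mem_centralizer_singleton_iff.2 (e.injective ?_).symm)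
      rw [map_mul, map_mul]
      exact Prod.ext h (Subtype.ext (mem_center_iff.1 (hA (e w).2.2) _))
    obtain ⟨eD⟩ := nonempty_dihedral (hKcard.trans (by norm_num)) _ _ hv hw' hne
    exact ⟨A', iA, hexpA', ⟨e.trans (eD.prodCongr eA)⟩⟩
  · have hexpP : ∀ g : P, g ^ p = 1 := by
      intro g
      obtain ⟨c, hcC, i, rfl⟩ := hdec g
      rw [Extraspecial.mul_pow_eq (hcc (commutatorElement_mem _ _))]
      obtain ⟨k, hk⟩ := hp.dvd_choose_self two_ne_zero (lt_of_le_of_ne hp.two_le (Ne.symm hodd))
      have hwi : (w ^ i) ^ p = 1 := by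
        rw [← zpow_natCast, ← zpow_mul, mul_comm, zpow_mul, zpow_natCast, hwp, one_zpow]
      rw [hk, pow_mul, pow_prime_eq_one_of_mem hc (commutatorElement_mem _ _), one_pow, mul_one,
        hCexp c hcC, hwi, mul_one]
    obtain ⟨E, iE, ⟨eE⟩⟩ := exists_type_zero_group K
    haveI : Finite E := Finite.of_equiv _ eE.toEquiv
    obtain ⟨a, b, hab⟩ := hna
    have hexpE : ∀ x : E, x ^ p = 1 := fun x => by
      obtain ⟨k, rfl⟩ := eE.surjective x
      rw [← map_pow, show k ^ p = 1 from Subtype.ext (hexpP k), map_one]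
    obtain ⟨hE, hEe⟩ := isExtraspecial_of_card_cube (E := E)
      ((Nat.card_congr eE.toEquiv).symm.trans hKcard) hexpE
      ⟨eE a, eE b, fun h => hab (eE.injective (by rw [map_mul, map_mul, h]))⟩
    exact ⟨E, iE, A', iA, hE, (Nat.card_congr eE.toEquiv).symm.trans hKcard, hEe, hexpA',
      ⟨e.trans (eE.prodCongr eA)⟩⟩

end Cfsg.Agent.Lib.Resistant
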