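import Cfsg.Agent.Lib.Resistant.GenExtraNormal
import Cfsg.Agent.Lib.Fusion.Normal

/-!
Resistance of generalized extraspecial groups.

Written by helper60.
-/

set_option autoImplicit false
set_option maxHeartbeats 800000

namespace Cfsg.Agent.Lib.Resistant

open Cfsg Cfsg.FusionSystem Cfsg.Agent.Lib.Fusion
open scoped commutatorElement

universe u

/-- A subgroup of index `p` and an element outside it generate. -/
theorem exists_eq_mul_zpow {G : Type*} [Group G] [Finite G] {p : ℕ} [Fact p.Prime] {C : Subgroup G}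
    [C.Normal] (hi : C.index = p) {w : G} (hw : w ∉ C) (g : G) :
    ∃ c ∈ C, ∃ i : ℤ, g = c * w ^ i := by
  have htop : C ⊔ Subgroup.zpowers w = ⊤ := by
    have hlt : C < C ⊔ Subgroup.zpowers w := lt_of_le_of_ne le_sup_left fun h =>
      hw (h ▸ Subgroup.mem_sup_right (Subgroup.mem_zpowers w))
    have h1 := Subgroup.index_dvd_of_le hlt.le
    rw [hi] at h1
    rcases (Nat.dvd_prime (Fact.out : p.Prime)).1 h1 with h2 | h2
    · exact Subgroup.index_eq_one.1 h2
    · have h3 := Subgroup.index_strictAnti hlt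
      rw [h2, hi] at h3
      exact absurd h3 (lt_irrefl p)
  obtain ⟨c, hc, u, ⟨i, rfl⟩, hg⟩ :=
    Subgroup.mem_sup_of_normal_left.1 (show g ∈ C ⊔ Subgroup.zpowers w by
      rw [htop]; exact Subgroup.mem_top g)
  exact ⟨c, hc, i, hg.symm⟩

/-- In a generalized extraspecial group with an abelian subgroup `centralizer {y}` of exponent `p`,
either the group splits, or `p` is odd and every element outside has order greater than `p`. -/
theorem odd_and_pow_ne_one {G : Type*} [Group G] [Finite G] {p : ℕ} [Fact p.Prime]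
    (hG : IsPGroup p G) (hΦ : frattini G = commutator G) (hc : Nat.card (commutator G) = p)
    (h2 : p = 2 → ¬ ∃ (A : Type) (_ : CommGroup A), (∀ a : A, a ^ 2 = 1) ∧
      Nonempty (G ≃* DihedralGroup 4 × A))
    (hodd : p ≠ 2 → ¬ ∃ (E : Type) (_ : Group E) (A : Type) (_ : CommGroup A),
      Cfsg.IsExtraspecial p E ∧ Nat.card E = p ^ 3 ∧ Monoid.exponent E = p ∧
        (∀ a : A, a ^ p = 1) ∧ Nonempty (G ≃* E × A))
    {y : G} (hy : y ∉ Subgroup.center G)
    (hCab : ∀ a ∈ Subgroup.centralizer ({y} : Set G), ∀ b ∈ Subgroup.centralizer ({y} : Set G),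
      a * b = b * a)
    (hCexp : ∀ a ∈ Subgroup.centralizer ({y} : Set G), a ^ p = 1) :
    p ≠ 2 ∧ ∀ w ∉ Subgroup.centralizer ({y} : Set G), w ^ p ≠ 1 := by
  have hno : ∀ w ∉ Subgroup.centralizer ({y} : Set G), w ^ p ≠ 1 := fun w hw hwp => by
    obtain ⟨ha, hb⟩ := exists_split hG hΦ hc hy hCab hCexp hw hwp
    by_cases hp : p = 2
    · exact h2 hp (ha hp)
    · exact hodd hp (hb hp)
  refine ⟨fun hp => ?_, hno⟩
  subst hp
  obtain ⟨x, hx⟩ : ∃ x, x ∉ Subgroup.centralizer ({y} : Set G) := by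
    by_contra h
    push Not at h
    exact hy (Subgroup.mem_center_iff.2 fun g => Subgroup.mem_centralizer_singleton_iff.1 (h g))
  have hyC : y ∈ Subgroup.centralizer ({y} : Set G) := Subgroup.mem_centralizer_singleton_iff.2 rfl
  have hxy : x * y ∉ Subgroup.centralizer ({y} : Set G) := fun h => hx (by
    simpa using mul_mem h (inv_mem hyC))
  refine hno _ hxy ?_
  have hx2 : x ^ 2 ∈ commutator G := hΦ ▸ PFrattini.pow_mem_frattini hG x
  have hne : ⁅y, x⁆ ≠ 1 := fun h =>
    hx (Subgroup.mem_centralizer_singleton_iff.2 (commutatorElement_eq_one_iff_mul_comm.1 h).symm)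
  have hmem : x ^ 2 ∈ Subgroup.zpowers ⁅y, x⁆ := by
    rw [zpowers_eq_commutator hc (commutatorElement_mem y x) hne]; exact hx2
  have hsq := pow_prime_eq_one_of_mem hc (commutatorElement_mem y x)
  rw [Extraspecial.mul_pow_eq (commutator_le_center_of_card hG hc (commutatorElement_mem y x)),
    hCexp y hyC, mul_one, Nat.choose_self, pow_one]
  obtain ⟨i, hi⟩ := hmem
  have hi' : ⁅y, x⁆ ^ i = x ^ 2 := hi
  rcases Int.even_or_odd' i with ⟨k, rfl | rfl⟩
  · exfalso
    refine hno x hx ?_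
    rw [← hi', zpow_mul, zpow_ofNat, hsq, one_zpow]
  · rw [← hi', zpow_add, zpow_mul, zpow_ofNat, hsq, one_zpow, one_mul, zpow_one, ← pow_two, hsq]

variable {Ω : Type u} [Group Ω] {S : Subgroup Ω} {F : FusionSystem S} {p : ℕ} [Fact p.Prime]

/-- A strongly closed generalized extraspecial subgroup not of the excluded forms is normal. -/
theorem isNormal_of_genExtraspecial [Finite S] (hS : IsPGroup p S) (hF : F.IsSaturated p)
    {P : Subgroup Ω} (hP : F.StronglyClosed P)
    (hΦ : frattini P = commutator P) (hc : Nat.card (commutator P) = p)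
    (h2 : p = 2 → ¬ ∃ (A : Type) (_ : CommGroup A), (∀ a : A, a ^ 2 = 1) ∧
      Nonempty (↥P ≃* DihedralGroup 4 × A))
    (hodd : p ≠ 2 → ¬ ∃ (E : Type) (_ : Group E) (A : Type) (_ : CommGroup A),
      Cfsg.IsExtraspecial p E ∧ Nat.card E = p ^ 3 ∧ Monoid.exponent E = p ∧
        (∀ a : A, a ^ p = 1) ∧ Nonempty (↥P ≃* E × A)) :
    F.IsNormal P := by
  haveI : Finite P := Fusion.finite_of_le hP.1
  have hPp : IsPGroup p P := hS.to_le hP.1
  have hp := (Fact.out : p.Prime)
  set Z : Subgroup Ω := (commutator P).map P.subtype with hZdef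
  have hZP : Z ≤ P := Subgroup.map_subtype_le _
  have hZcard : Nat.card Z = p := by
    rw [hZdef, Subgroup.card_subtype, hc]
  have hZmem : ∀ a : P, ((a : Ω) ∈ Z ↔ a ∈ commutator P) := fun a => by
    rw [hZdef]
    exact Subgroup.mem_map_iff_mem P.subtype_injective
  have hcomm : ∀ a b : Ω, a ∈ P → b ∈ P → a * b * a⁻¹ * b⁻¹ ∈ Z := fun a b ha hb =>
    (hZmem ⁅(⟨a, ha⟩ : P), ⟨b, hb⟩⁆).2 (commutatorElement_mem _ _)
  -- `P` and `Z` are normal in `S`
  have hPS : ∀ g ∈ S, ∀ a ∈ P, g * a * g⁻¹ ∈ P := fun g hg a ha =>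
    Fusion87.stronglyClosed_apply hP (F.conj_mem hP.1 hg) ⟨a, ha⟩ ha
  have hZS : ∀ g ∈ S, ∀ a ∈ Z, g * a * g⁻¹ ∈ Z := by
    intro g hg a ha
    obtain ⟨a', ha', rfl⟩ := Subgroup.mem_map.1 ha
    set f : P →* P := (conjHom P g).codRestrict P fun x => hPS g hg x x.2
    have h1 : f a' ∈ commutator P := by
      have hle : (commutator P).map f ≤ commutator P := by
        rw [_root_.commutator_def, Subgroup.map_commutator]
        exact Subgroup.commutator_mono le_top le_top
      exact hle (Subgroup.mem_map_of_mem f ha')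
    exact (hZmem (f a')).2 h1
  haveI : (Z.subgroupOf S).Normal :=
    ⟨fun n hn g => by simpa [Subgroup.mem_subgroupOf] using hZS g g.2 n hn⟩
  have hZc : ∀ g ∈ S, ∀ a ∈ Z, g * a = a * g := by
    intro g hg a ha
    have hcard : Nat.card (Z.subgroupOf S) = p :=
      (Nat.card_congr (Subgroup.subgroupOfEquivOfLe (hZP.trans hP.1)).toEquiv).trans hZcard
    have h := le_center_of_normal_card hS (Z.subgroupOf S) hcard
      (x := (⟨a, hP.1 (hZP ha)⟩ : S)) ha
    exact congrArg Subtype.val (Subgroup.mem_center_iff.1 h ⟨g, hg⟩)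
  have hZgen : ∀ a ∈ Z, a ≠ 1 → Subgroup.zpowers a = Z := by
    intro a ha ha1
    haveI : Finite Z := Fusion.finite_of_le (hZP.trans hP.1)
    refine Subgroup.eq_of_le_of_card_ge (Subgroup.zpowers_le.2 ha) ?_
    have hap : a ^ p = 1 := by
      have : (⟨a, ha⟩ : Z) ^ p = 1 := by rw [← hZcard]; exact pow_card_eq_one'
      exact congrArg Subtype.val this
    rw [Nat.card_zpowers, hZcard, orderOf_eq_prime hap ha1]
  -- `Z` is strongly closed
  have hZsc : F.StronglyClosed Z := by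
    refine ⟨hZP.trans hP.1, fun R hR φ hφ r => ?_⟩
    by_contra hy
    set z : Ω := (r : Ω)
    set y : Ω := φ r
    have hzZ : z ∈ Z := hR r.2
    have hz1 : z ≠ 1 := fun h => hy (by
      show φ r ∈ Z
      rw [show r = 1 from Subtype.ext h, map_one]; exact one_mem Z)
    have hyP : y ∈ P := Fusion87.stronglyClosed_apply hP hφ r (hZP hzZ)
    have hRz : Subgroup.zpowers z ≤ R := Subgroup.zpowers_le.2 r.2
    have hzl : Subgroup.zpowers z ≤ S := by rw [hZgen z hzZ hz1]; exact hZP.trans hP.1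
    set φ' := φ.comp (Subgroup.inclusion hRz)
    have hφ' : φ' ∈ F.Hom (Subgroup.zpowers z) := restrict_mem hφ hRz
    obtain ⟨ψ, hψ, hψφ⟩ := F.inv_mem hφ'
    have hψr : ψ.range = Subgroup.zpowers z := by
      ext a
      constructor
      · rintro ⟨⟨_, v, rfl⟩, rfl⟩
        rw [hψφ]; exact v.2
      · intro ha
        exact ⟨⟨φ' ⟨a, ha⟩, ⟨a, ha⟩, rfl⟩, hψφ _⟩
    have hyY : y ∈ φ'.range := ⟨⟨z, Subgroup.mem_zpowers z⟩, rfl⟩
    have hψy : ψ ⟨y, hyY⟩ = z := hψφ ⟨z, Subgroup.mem_zpowers z⟩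
    have hYle : φ'.range ≤ Subgroup.zpowers y := by
      rintro _ ⟨⟨_, i, rfl⟩, rfl⟩
      refine ⟨i, ?_⟩
      show φ r ^ i = φ _
      rw [← map_zpow]
      exact congrArg φ (Subtype.ext (R.subtype.map_zpow r i))
    have hfc : F.IsFullyCentralized (Subgroup.zpowers z) := by
      refine ⟨hzl, fun Q _ => ?_⟩
      have : centralizerIn S (Subgroup.zpowers z) = S := by
        refine le_antisymm inf_le_left (le_inf le_rfl fun g hg => ?_)
        intro a ha
        rw [SetLike.mem_coe, hZgen z hzZ hz1] at ha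
        exact (hZc g hg a ha).symm
      rw [this]
      exact Subgroup.card_le_of_le inf_le_left
    obtain ⟨χ, hχ, hχY⟩ := (isReceptive_of_isFullyCentralized hS hF hfc).2 _ ψ hψ hψr
    set C : Subgroup Ω := P ⊓ Subgroup.centralizer ({y} : Set Ω)
    have hCP : C ≤ P := inf_le_left
    have hCy : ∀ u ∈ C, u * y = y * u := fun u hu =>
      Subgroup.mem_centralizer_singleton_iff.1 hu.2
    have hyC : y ∈ C := ⟨hyP, Subgroup.mem_centralizer_singleton_iff.2 rfl⟩
    have hCle : C ≤ extender S φ'.range ψ := by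
      intro u hu
      have huY : ∀ a ∈ φ'.range, u * a * u⁻¹ = a := by
        intro a ha
        obtain ⟨i, rfl⟩ := hYle ha
        exact mul_inv_eq_of_eq_mul ((show Commute u y from hCy u hu).zpow_right i).eq
      refine mem_extender_of (hP.1 hu.1) (mem_normalizer_of_mem_centralizer fun a ha => ?_)
        (one_mem S) fun a ha => ?_
      · exact (mul_inv_eq_iff_eq_mul.1 (huY a ha)).symm
      · rw [one_mul, inv_one, mul_one]
        exact congrArg ψ (Subtype.ext (huY a a.2))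
    set χC : C →* Ω := χ.comp (Subgroup.inclusion hCle)
    have hχC : χC ∈ F.Hom C := restrict_mem hχ hCle
    have hχP : ∀ u : C, χC u ∈ P := fun u => Fusion87.stronglyClosed_apply hP hχC u u.2.1
    have hχy : χC ⟨y, hyC⟩ = z := by
      rw [← hψy]
      exact hχY y hyY (hCle hyC)
    have hinj := F.injective_of_mem hχC
    have hkey : ∀ u : C, (u : Ω) ∈ Z → u ≠ 1 → χC u ∈ Z → False := by
      intro u hu hu1 hχu
      have h1 : χC u ≠ 1 := fun h => hu1 (hinj (h.trans (map_one χC).symm))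
      obtain ⟨i, hi⟩ : z ∈ Subgroup.zpowers (χC u) := by rw [hZgen _ hχu h1]; exact hzZ
      have h3 : (⟨y, hyC⟩ : C) = u ^ i := hinj (by rw [hχy, map_zpow]; exact hi.symm)
      refine hy ?_
      have h4 := congrArg Subtype.val h3
      rw [Subgroup.coe_zpow] at h4
      show y ∈ Z
      rw [show y = (u : Ω) ^ i from h4]
      exact Z.zpow_mem hu i
    have hCab : ∀ a ∈ C, ∀ b ∈ C, a * b = b * a := by
      intro a ha b hb
      by_contra hne
      set w : C := ⁅(⟨a, ha⟩ : C), ⟨b, hb⟩⁆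
      have hw : (w : Ω) = a * b * a⁻¹ * b⁻¹ := rfl
      refine hkey w (hw ▸ hcomm a b ha.1 hb.1) (fun h => hne ?_) ?_
      · have := congrArg Subtype.val h
        rw [hw, OneMemClass.coe_one] at this
        exact commutatorElement_eq_one_iff_mul_comm.1 this
      · rw [map_commutatorElement]
        exact hcomm _ _ (hχP _) (hχP _)
    have hCexp : ∀ a ∈ C, a ^ p = 1 := by
      intro a ha
      by_contra hne
      have hpow : ∀ v : Ω, v ∈ P → v ^ p ∈ Z := fun v hv => by
        have h : (⟨v, hv⟩ : P) ^ p ∈ commutator P := hΦ ▸ PFrattini.pow_mem_frattini hPp _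
        exact (hZmem _).2 h
      refine hkey (⟨a, ha⟩ ^ p) ?_ (fun h => hne (congrArg Subtype.val h)) ?_
      · exact hpow a ha.1
      · rw [map_pow]; exact hpow _ (hχP _)
    -- in `P`
    set y' : P := ⟨y, hyP⟩
    have hmemC : ∀ u : P, (u : Ω) ∈ C ↔ u ∈ Subgroup.centralizer ({y'} : Set P) := by
      intro u
      rw [Subgroup.mem_centralizer_singleton_iff]
      exact ⟨fun h => Subtype.ext (hCy _ h),
        fun h => ⟨u.2, Subgroup.mem_centralizer_singleton_iff.2 (congrArg Subtype.val h)⟩⟩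
    have hyc : y' ∉ Subgroup.center P := by
      intro h
      have hall : ∀ u : P, (u : Ω) ∈ C := fun u => (hmemC u).2
        (Subgroup.mem_centralizer_singleton_iff.2 (Subgroup.mem_center_iff.1 h u))
      have hbot : commutator P = ⊥ := by
        rw [_root_.commutator_def, Subgroup.commutator_eq_bot_iff_le_centralizer]
        exact fun u _ v _ => Subtype.ext (hCab _ (hall v) _ (hall u))
      rw [hbot, Subgroup.card_bot] at hc
      exact hp.ne_one hc.symm
    obtain ⟨hp2, hno⟩ := odd_and_pow_ne_one hPp hΦ hc h2 hodd hyc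
      (fun a ha b hb => Subtype.ext (hCab _ ((hmemC a).2 ha) _ ((hmemC b).2 hb)))
      (fun a ha => Subtype.ext (hCexp _ ((hmemC a).2 ha)))
    have hexp_iff : ∀ u ∈ P, u ^ p = 1 → u ∈ C := fun u hu hup => by
      by_contra h
      exact hno ⟨u, hu⟩ (fun h' => h ((hmemC ⟨u, hu⟩).2 h')) (Subtype.ext hup)
    -- `C` is normal in `S`
    have hCn : S ≤ Subgroup.normalizer (C : Set Ω) := by
      intro g hg
      have hc1 : ∀ g ∈ S, ∀ u ∈ C, g * u * g⁻¹ ∈ C := fun g hg u hu =>
        hexp_iff _ (hPS g hg u hu.1) (by rw [conj_pow, hCexp u hu, mul_one, mul_inv_cancel])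
      refine Subgroup.mem_normalizer_iff.2 fun u => ⟨hc1 g hg u, fun h => ?_⟩
      have h' := hc1 g⁻¹ (S.inv_mem hg) _ h
      rwa [inv_inv, ← mul_assoc, ← mul_assoc, inv_mul_cancel, one_mul, inv_mul_cancel_right] at h'
    obtain ⟨x, hxP, hxC⟩ : ∃ x ∈ P, x ∉ C := by
      by_contra h
      push Not at h
      exact hyc (Subgroup.mem_center_iff.2 fun u =>
        Subgroup.mem_centralizer_singleton_iff.1 ((hmemC u).1 (h u u.2)))
    have hxp1 : x ^ p ≠ 1 := fun h => hxC (hexp_iff x hxP h)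
    have hxpZ : x ^ p ∈ Z := by
      have h : (⟨x, hxP⟩ : P) ^ p ∈ commutator P := hΦ ▸ PFrattini.pow_mem_frattini hPp _
      exact (hZmem _).2 h
    have hxpC : x ^ p ∈ C :=
      ⟨hZP hxpZ, Subgroup.mem_centralizer_singleton_iff.2 (hZc y (hP.1 hyP) _ hxpZ).symm⟩
    haveI : (Subgroup.centralizer ({y'} : Set P)).Normal := Subgroup.Normal.of_commutator_le _
      fun w hw => Subgroup.mem_centralizer_singleton_iff.2
        ((Subgroup.mem_center_iff.1 (commutator_le_center_of_card hPp hc hw) y').symm)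
    have hgen : ∀ u ∈ P, ∃ c ∈ C, ∃ i : ℤ, u = c * x ^ i := by
      intro u hu
      obtain ⟨c, hcC, i, hci⟩ := exists_eq_mul_zpow (index_centralizer hPp hc hyc)
        (w := (⟨x, hxP⟩ : P)) (fun h => hxC ((hmemC ⟨x, hxP⟩).2 h)) ⟨u, hu⟩
      exact ⟨c, (hmemC c).2 hcC, i, by simpa using congrArg Subtype.val hci⟩
    have hxpc : ∀ c ∈ C, (x * c) ^ p = x ^ p := by
      intro c hcC
      have h := Extraspecial.mul_pow_eq (a := (⟨x, hxP⟩ : P)) (b := ⟨c, hcC.1⟩)
        (commutator_le_center_of_card hPp hc (commutatorElement_mem _ _)) p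
      obtain ⟨k, hk⟩ := hp.dvd_choose_self two_ne_zero (lt_of_le_of_ne hp.two_le (Ne.symm hp2))
      rw [hk, pow_mul, pow_prime_eq_one_of_mem hc (commutatorElement_mem _ _), one_pow,
        mul_one] at h
      have h' := congrArg Subtype.val h
      simpa [hCexp c hcC] using h'
    have hcz : ∀ c : C, x * (c : Ω) * x⁻¹ * (c : Ω)⁻¹ ∈ Subgroup.zpowers (x ^ p) := fun c => by
      rw [hZgen _ hxpZ hxp1]; exact hcomm _ _ hxP c.2.1
    have hAut := autGroup_transvection hS hF hp2 hP hCP hCn hCexp hCab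
      (fun u hu h => ⟨hu, Subgroup.mem_centralizer_singleton_iff.2 (h y hyC)⟩)
      hxP hxC hgen (z := (⟨x ^ p, hxpC⟩ : C)) rfl (fun h => hxp1 (congrArg Subtype.val h)) hxpc hcz
    set τ := conjAut C x (hCn (hP.1 hxP)) with hτ
    -- an automorphism of `C` moving `z` to `y`
    haveI : Finite C := Fusion.finite_of_le (hCP.trans hP.1)
    obtain ⟨α, hα, hαapp⟩ := exists_aut_of_hom hχC fun u => hexp_iff _ (hχP u) (by
      rw [← map_pow, show u ^ p = 1 from Subtype.ext (hCexp _ u.2), map_one])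
    have hσ := hAut α⁻¹ (inv_mem hα)
    rw [inv_inv] at hσ
    have hτind : τ ∈ autInducedBy P C :=
      mem_autInducedBy.2 ⟨x, hxP, fun c => rfl⟩
    obtain ⟨g, hgP, hg⟩ := mem_autInducedBy.1 (Subgroup.zpowers_le.2 hτind hσ)
    set Y : C := ⟨y, hyC⟩
    set δ : C := τ Y * Y⁻¹
    have hδval : (δ : Ω) = x * y * x⁻¹ * y⁻¹ := rfl
    have hδZ : (δ : Ω) ∈ Z := hδval ▸ hcomm x y hxP hyP
    have hδ1 : (δ : Ω) ≠ 1 := fun h => hxC ⟨hxP, Subgroup.mem_centralizer_singleton_iff.2
      ((commutatorElement_eq_one_iff_mul_comm (g₁ := x) (g₂ := y)).1 (hδval.symm.trans h))⟩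
    have hβδ : ((α⁻¹ δ : C) : Ω) ∈ Z := by
      have e : (α⁻¹ * τ * α) (α⁻¹ Y) * (α⁻¹ Y)⁻¹ = α⁻¹ δ := by
        show α⁻¹ (τ (α (α⁻¹ Y))) * _ = _
        rw [show α (α⁻¹ Y) = Y from α.apply_symm_apply Y, map_mul α⁻¹, map_inv α⁻¹]
      rw [← e, Subgroup.coe_mul, Subgroup.coe_inv, hg]
      exact hcomm g _ hgP (α⁻¹ Y).2.1
    obtain ⟨i, hi⟩ : z ∈ Subgroup.zpowers (δ : Ω) := by rw [hZgen _ hδZ hδ1]; exact hzZ
    refine hy ?_
    have hαY : α Y = δ ^ i := Subtype.ext (by rw [hαapp, hχy, Subgroup.coe_zpow]; exact hi.symm)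
    have hY : Y = α⁻¹ δ ^ i := by
      rw [← map_zpow, ← hαY]
      exact (α.symm_apply_apply Y).symm
    show (Y : Ω) ∈ Z
    rw [hY, Subgroup.coe_zpow]
    exact Z.zpow_mem hβδ i
  -- the series
  refine Fusion87.isNormal_of_series hS hF (fun i => if i = 0 then ⊥ else if i = 1 then Z else P)
    (n := 2) rfl rfl ?_ ?_
  · intro i hi
    interval_cases i
    · exact Fusion.stronglyClosed_bot
    · exact hZsc
    · exact hP
  · intro i hi
    interval_cases i
    · intro a ha q hq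
      show q * a * q⁻¹ * a⁻¹ ∈ (⊥ : Subgroup Ω)
      rw [Subgroup.mem_bot, hZc q (hP.1 hq) a ha, mul_inv_cancel_right, mul_inv_cancel]
    · intro a ha q hq
      exact hcomm q a hq ha

end Cfsg.Agent.Lib.Resistant
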