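import Cfsg.Agent.Lib.Fusion87.Normal
import Cfsg.Agent.Lib.Fusion.Alperin
import Cfsg.Agent.Lib.Resistant.GenExtraSplit

/-!
A strongly closed generalized extraspecial subgroup which does not split as (dihedral of order 8 or
`p^{1+2}` of exponent `p`) times elementary abelian is normal in a saturated fusion system.

Written by helper60.
-/

set_option autoImplicit false
set_option maxHeartbeats 1600000

namespace Cfsg.Agent.Lib.Resistant

open Cfsg Cfsg.FusionSystem Cfsg.Agent.Lib.Fusion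
open scoped commutatorElement

universe u

variable {Ω : Type u} [Group Ω] {S : Subgroup Ω} {F : FusionSystem S} {p : ℕ} [Fact p.Prime]

/-- The element-level version of `commute` for automorphisms moving by powers of fixed elements. -/
theorem commute_of_moves {C : Type*} [CommGroup C] {τ σ : MulAut C} {z e : C}
    (hτ : ∀ c, τ c * c⁻¹ ∈ Subgroup.zpowers z) (hσ : ∀ c, σ c * c⁻¹ ∈ Subgroup.zpowers e)
    (hτe : τ e = e) (hσz : σ z = z) : τ * σ = σ * τ := by
  refine MulEquiv.ext fun c => ?_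
  show τ (σ c) = σ (τ c)
  obtain ⟨i, hi⟩ := hτ c
  obtain ⟨j, hj⟩ := hσ c
  simp only at hi hj
  have h1 : σ c = e ^ j * c := by rw [hj, inv_mul_cancel_right]
  have h2 : τ c = z ^ i * c := by rw [hi, inv_mul_cancel_right]
  rw [h1, map_mul, map_zpow, hτe, h2, map_mul, map_zpow, hσz, h1, mul_left_comm]

/-- In a finite `p`-group a normal subgroup of order `p` is central. -/
theorem le_center_of_normal_card {T : Type*} [Group T] [Finite T] (hT : IsPGroup p T)
    (N : Subgroup T) [N.Normal] (hN : Nat.card N = p) : N ≤ Subgroup.center T := by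
  have := hT.isNilpotent
  have hne : N ≠ ⊥ := fun h => by
    rw [h, Subgroup.card_bot] at hN
    exact (Fact.out : p.Prime).ne_one hN.symm
  have h2 := Nilp.inf_center_ne_bot_of_normal hne
  have hdvd : Nat.card ↥(N ⊓ Subgroup.center T) ∣ p := hN ▸ Subgroup.card_dvd_of_le inf_le_left
  have hone : Nat.card ↥(N ⊓ Subgroup.center T) ≠ 1 := fun h => h2 (Subgroup.card_eq_one.1 h)
  rw [← inf_eq_left]
  exact Subgroup.eq_of_le_of_card_ge inf_le_left
    (by rw [((Nat.dvd_prime Fact.out).1 hdvd).resolve_left hone, hN])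

theorem zpowers_eq_of_prime {H : Type*} [Group H] {a b : H} (ha : a ^ p = 1)
    (hb : b ∈ Subgroup.zpowers a) (hb1 : b ≠ 1) : Subgroup.zpowers b = Subgroup.zpowers a := by
  have hp := (Fact.out : p.Prime)
  have ha1 : a ≠ 1 := by
    rintro rfl
    rw [Subgroup.zpowers_one_eq_bot, Subgroup.mem_bot] at hb
    exact hb1 hb
  have hb' : b ^ p = 1 := by
    obtain ⟨i, rfl⟩ := hb
    show (a ^ i) ^ p = 1
    rw [← zpow_natCast, ← zpow_mul, mul_comm, zpow_mul, zpow_natCast, ha, one_zpow]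
  haveI : Finite (Subgroup.zpowers a) := Nat.finite_of_card_ne_zero (by
    rw [Nat.card_zpowers, orderOf_eq_prime ha ha1]; exact hp.ne_zero)
  exact Subgroup.eq_of_le_of_card_ge (Subgroup.zpowers_le.2 hb)
    (by rw [Nat.card_zpowers, Nat.card_zpowers, orderOf_eq_prime ha ha1, orderOf_eq_prime hb' hb1])

/-- The automorphism part: all conjugates of the action of `x` are powers of it. -/
theorem autGroup_transvection [Finite S] (hS : IsPGroup p S) (hF : F.IsSaturated p) (hp : p ≠ 2)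
    {P C : Subgroup Ω} (hP : F.StronglyClosed P) (hCP : C ≤ P)
    (hnorm : S ≤ Subgroup.normalizer (C : Set Ω))
    (hC1 : ∀ c ∈ C, c ^ p = 1) (hCab : ∀ a ∈ C, ∀ b ∈ C, a * b = b * a)
    (hcC : ∀ u ∈ P, (∀ c ∈ C, u * c = c * u) → u ∈ C)
    {x : Ω} (hx : x ∈ P) (hxC : x ∉ C) (hgen : ∀ u ∈ P, ∃ c ∈ C, ∃ i : ℤ, u = c * x ^ i)
    {z : C} (hz : (z : Ω) = x ^ p) (hz1 : z ≠ 1) (hxpc : ∀ c ∈ C, (x * c) ^ p = x ^ p)
    (hcomm : ∀ c : C, x * (c : Ω) * x⁻¹ * (c : Ω)⁻¹ ∈ Subgroup.zpowers (x ^ p)) :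
    ∀ α ∈ F.autGroup C, α * conjAut C x (hnorm (hP.1 hx)) * α⁻¹ ∈
      Subgroup.zpowers (conjAut C x (hnorm (hP.1 hx))) := by
  letI : CommGroup C :=
    { (inferInstance : Group C) with mul_comm := fun a b => Subtype.ext (hCab _ a.2 _ b.2) }
  have hCS : C ≤ S := hCP.trans hP.1
  haveI := finite_mulAut (S := S) hCS
  haveI : Finite C := Fusion.finite_of_le hCS
  have hfn : F.IsFullyNormalized C := ⟨hCS, fun R _ => by
    rw [show normalizerIn S C = S from le_antisymm inf_le_left (le_inf le_rfl hnorm)]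
    exact Subgroup.card_le_of_le inf_le_left⟩
  have hsyl : IsSylowIn p (autInducedBy S C) (F.autGroup C) :=
    (isFullyAutomized_iff.1 (isFullyAutomized_of_isFullyNormalized hS hF hfn)).2
  have hrec := isReceptive_of_isFullyNormalized hS hF hfn
  have hTG : autInducedBy S C ≤ F.autGroup C := autInducedBy_le_autGroup hCS
  set τ := conjAut C x (hnorm (hP.1 hx)) with hτ
  have hτapp : ∀ c : C, (τ c : Ω) = x * (c : Ω) * x⁻¹ := fun c => rfl
  have hτT : τ ∈ autInducedBy S C := mem_autInducedBy.2 ⟨x, hP.1 hx, hτapp⟩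
  have hτG : τ ∈ F.autGroup C := hTG hτT
  have hτZ : ∀ c : C, τ c * c⁻¹ ∈ Subgroup.zpowers z := fun c => by
    obtain ⟨i, hi⟩ := hcomm c
    refine ⟨i, Subtype.ext ?_⟩
    rw [Subgroup.coe_zpow, hz]
    exact hi
  have hτz : τ z = z := Subtype.ext (by rw [hτapp, hz]; group)
  have hτpow : ∀ n : ℕ, ∀ c : C, ((τ ^ n) c : Ω) = x ^ n * (c : Ω) * (x ^ n)⁻¹ := by
    intro n
    induction n with
    | zero => intro c; simp
    | succ n ih =>
      intro c
      rw [pow_succ', MulAut.mul_apply, hτapp, ih, pow_succ' x]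
      group
  have hτp : τ ^ p = 1 := MulEquiv.ext fun c => Subtype.ext (by
    rw [hτpow, ← hz, MulAut.one_apply]
    have := hCab _ z.2 _ c.2
    rw [this, mul_inv_cancel_right])
  have hτ1 : τ ≠ 1 := fun h => hxC (hcC x hx fun c hc => by
    have h1 := congrArg Subtype.val (DFunLike.congr_fun h (⟨c, hc⟩ : C))
    rw [hτapp, MulAut.one_apply] at h1
    exact eq_mul_of_mul_inv_eq h1)
  -- moving element
  obtain ⟨y, hy⟩ : ∃ y : C, τ y ≠ y := by
    by_contra h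
    push_neg at h
    exact hτ1 (MulEquiv.ext h)
  set δ := τ y * y⁻¹ with hδdef
  have hδ1 : δ ≠ 1 := fun h => hy (mul_inv_eq_one.1 h)
  have hzp : z ^ p = 1 := Subtype.ext (hC1 _ z.2)
  have hδgen : Subgroup.zpowers δ = Subgroup.zpowers z := zpowers_eq_of_prime hzp (hτZ y) hδ1
  -- weak closure
  have hext : ∀ α ∈ F.autGroup C, α * τ * α⁻¹ ∈ autInducedBy S C →
      ∃ ψ ∈ F.Hom (extender S C (autHom α)), ∃ hxe : x ∈ extender S C (autHom α),
        ∃ hn : ψ ⟨x, hxe⟩ ∈ Subgroup.normalizer (C : Set Ω),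
          α * τ * α⁻¹ = conjAut C (ψ ⟨x, hxe⟩) hn ∧ ψ ⟨x, hxe⟩ ∈ P ∧
          ∀ (c : Ω) (hc : c ∈ C) (hce : c ∈ extender S C (autHom α)),
            ψ ⟨c, hce⟩ = α ⟨c, hc⟩ := by
    intro α hα hT
    have hxe : x ∈ extender S C (autHom α) :=
      mem_extender_of_conj_mem (hP.1 hx) (hnorm (hP.1 hx)) hT
    obtain ⟨ψ, hψ, hψC⟩ := hrec.2 C _ (autGroup_hom_mem hCS hα) (range_autHom α)
    have hle : C ≤ extender S C (autHom α) := le_extender (autGroup_hom_mem hCS hα)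
    obtain ⟨hn, he⟩ := conjAut_transport hle (α := α) (φ := ψ)
      (fun c => hψC (c : Ω) c.2 (hle c.2)) ⟨x, hxe⟩ (hnorm (hP.1 hx))
    exact ⟨ψ, hψ, hxe, hn, he, Fusion87.stronglyClosed_apply hP hψ _ hx,
      fun c hc hce => hψC c hc hce⟩
  have hwc : ∀ α ∈ F.autGroup C, α * τ * α⁻¹ ∈ autInducedBy S C →
      α * τ * α⁻¹ ∈ Subgroup.zpowers τ := by
    intro α hα hT
    obtain ⟨ψ, hψ, hxe, hn, he, hmem, -⟩ := hext α hα hT
    obtain ⟨c, hc, i, hci⟩ := hgen _ hmem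
    rw [he]
    haveI : Fact (0 < p) := ⟨(Fact.out : p.Prime).pos⟩
    have hfin : IsOfFinOrder τ := isOfFinOrder_of_finite τ
    obtain ⟨n, hn'⟩ : ∃ n : ℕ, τ ^ n = τ ^ i := by
      obtain ⟨n, hn'⟩ := hfin.mem_powers_iff_mem_zpowers.2 (Subgroup.zpow_mem_zpowers τ i)
      exact ⟨n, hn'⟩
    refine ⟨i, ?_⟩
    show τ ^ i = _
    rw [← hn']
    refine MulEquiv.ext fun d => Subtype.ext ?_
    rw [hτpow, conjAut_apply, hci]
    have hx1 : x ^ (n : ℤ) * (d : Ω) * (x ^ (n : ℤ))⁻¹ = x ^ i * (d : Ω) * (x ^ i)⁻¹ := by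
      have key : ∀ m : ℤ, ((τ ^ m) d : Ω) = x ^ m * (d : Ω) * (x ^ m)⁻¹ := by
        intro m
        induction m with
        | zero => simp
        | succ m ih =>
          have h := hτpow (m + 1) d
          exact_mod_cast h
        | pred m ih =>
          have h2 : (τ ((τ ^ (-(m : ℤ) - 1)) d) : Ω) = x ^ (-(m : ℤ)) * (d : Ω) * (x ^ (-(m : ℤ)))⁻¹ := by
            rw [← ih, ← MulAut.mul_apply, ← zpow_one_add]
            congr 2
            congr 1
            omega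
          rw [hτapp] at h2
          calc ((τ ^ (-(m : ℤ) - 1)) d : Ω)
              = x⁻¹ * (x * ((τ ^ (-(m : ℤ) - 1)) d : Ω) * x⁻¹) * x := by group
            _ = x⁻¹ * (x ^ (-(m : ℤ)) * (d : Ω) * (x ^ (-(m : ℤ)))⁻¹) * x := by rw [h2]
            _ = x ^ (-(m : ℤ) - 1) * (d : Ω) * (x ^ (-(m : ℤ) - 1))⁻¹ := by group
      rw [← key, ← key, zpow_natCast, hn']
    rw [zpow_natCast] at hx1
    rw [hx1]
    have hd := hCab c hc _ ((Subgroup.mem_normalizer_iff.1
      (Subgroup.zpow_mem _ (hnorm (hP.1 hx)) i) (d : Ω)).1 d.2)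
    calc x ^ i * (d : Ω) * (x ^ i)⁻¹ = c * (x ^ i * (d : Ω) * (x ^ i)⁻¹) * c⁻¹ := by
          rw [hd, mul_inv_cancel_right]
      _ = c * x ^ i * (d : Ω) * (c * x ^ i)⁻¹ := by group
  -- commuting conjugates
  have hconjp : ∀ α : MulAut C, (α * τ * α⁻¹) ^ p = 1 := fun α => by
    rw [conj_pow, hτp, mul_one, mul_inv_cancel]
  have hcommute : ∀ α ∈ F.autGroup C, τ * (α * τ * α⁻¹) = (α * τ * α⁻¹) * τ →
      α * τ * α⁻¹ ∈ Subgroup.zpowers τ := by
    intro α hα hcm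
    set σ := α * τ * α⁻¹
    have hσG : σ ∈ F.autGroup C := mul_mem (mul_mem hα hτG) (inv_mem hα)
    have hzp' : ∀ w : MulAut C, w ^ p = 1 → IsPGroup p (Subgroup.zpowers w) := by
      intro w hw
      rintro ⟨v, i, rfl⟩
      refine ⟨1, Subtype.ext ?_⟩
      show (w ^ i) ^ p ^ 1 = 1
      rw [pow_one, ← zpow_natCast, ← zpow_mul, mul_comm, zpow_mul, zpow_natCast, hw, one_zpow]
    have hsupp : IsPGroup p ↥(Subgroup.zpowers τ ⊔ Subgroup.zpowers σ) := by
      refine IsPGroup.to_sup_of_normal_right' (hzp' τ hτp) (hzp' σ (hconjp α)) ?_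
      refine Subgroup.zpowers_le.2
        (Subgroup.centralizer_le_normalizer ((Subgroup.zpowers σ : Subgroup (MulAut C)) : Set (MulAut C)) ?_)
      rintro _ ⟨i, rfl⟩
      exact ((show Commute τ σ from hcm).symm.zpow_left i).eq
    have hle : Subgroup.zpowers τ ⊔ Subgroup.zpowers σ ≤ F.autGroup C :=
      sup_le (Subgroup.zpowers_le.2 hτG) (Subgroup.zpowers_le.2 hσG)
    obtain ⟨γ, hγ, hγle⟩ := hsyl.exists_conj_le hsupp hle
    have h1 : γ * τ * γ⁻¹ ∈ Subgroup.zpowers τ := hwc γ hγ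
      (hγle ⟨τ, Subgroup.mem_sup_left (Subgroup.mem_zpowers τ), rfl⟩)
    have h2 : (γ * α) * τ * (γ * α)⁻¹ ∈ Subgroup.zpowers τ := hwc (γ * α) (mul_mem hγ hα) (by
      have : γ * α * τ * (γ * α)⁻¹ = γ * σ * γ⁻¹ := by simp only [σ]; group
      rw [this]
      exact hγle ⟨σ, Subgroup.mem_sup_right (Subgroup.mem_zpowers σ), rfl⟩)
    have hne : γ * τ * γ⁻¹ ≠ 1 := fun h => hτ1 (by simpa using h)
    rw [← zpowers_eq_of_prime hτp h1 hne] at h2
    obtain ⟨i, hi⟩ := h2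
    refine ⟨i, ?_⟩
    show τ ^ i = σ
    have h3 : γ * τ ^ i * γ⁻¹ = γ * σ * γ⁻¹ := by
      rw [← conj_zpow]; refine hi.trans ?_; simp only [σ]; group
    exact mul_left_cancel (mul_right_cancel h3)
  -- the moves of a conjugate
  have hmove : ∀ (α : MulAut C) (c : C),
      (α * τ * α⁻¹) c * c⁻¹ ∈ Subgroup.zpowers (α z) := by
    intro α c
    obtain ⟨i, hi⟩ := hτZ (α⁻¹ c)
    refine ⟨i, ?_⟩
    show α z ^ i = _
    rw [← map_zpow]
    show α (z ^ i) = α (τ (α⁻¹ c)) * c⁻¹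
    rw [show z ^ i = τ (α⁻¹ c) * (α⁻¹ c)⁻¹ from hi, map_mul, map_inv]
    exact congrArg (fun t => α (τ (α⁻¹ c)) * t⁻¹) (α.apply_symm_apply c)
  have hfix : ∀ α : MulAut C, (α * τ * α⁻¹) (α z) = α z := fun α => by
    show α (τ (α⁻¹ (α z))) = α z
    rw [show α⁻¹ (α z) = z from α.symm_apply_apply z, hτz]
  -- a conjugate whose centre is fixed by `τ`
  have hA : ∀ α ∈ F.autGroup C, τ (α z) = α z → α * τ * α⁻¹ ∈ Subgroup.zpowers τ := by
    intro α hα hαz
    by_cases h : (α * τ * α⁻¹) z = z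
    · exact hcommute α hα (commute_of_moves hτZ (hmove α) hαz h)
    exfalso
    set t' := α * τ * α⁻¹ with ht'
    have ht'G : t' ∈ F.autGroup C := mul_mem (mul_mem hα hτG) (inv_mem hα)
    have hmem : t' z * z⁻¹ ∈ Subgroup.zpowers (α z) := hmove α z
    have hτe : τ (t' z) = t' z := by
      obtain ⟨i, hi⟩ := hmem
      have e : t' z = α z ^ i * z := by rw [show α z ^ i = t' z * z⁻¹ from hi, inv_mul_cancel_right]
      rw [e, map_mul, map_zpow, hαz, hτz]
    have hσz : (t' * τ * t'⁻¹) z = z := by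
      obtain ⟨i, hi⟩ := hmove α (t'⁻¹ z)
      have e1 : t' (t'⁻¹ z) = z := t'.apply_symm_apply z
      have e : t'⁻¹ z = (α z ^ i)⁻¹ * z := by
        rw [show α z ^ i = t' (t'⁻¹ z) * (t'⁻¹ z)⁻¹ from hi, e1]
        simp
      show t' (τ (t'⁻¹ z)) = z
      rw [e, map_mul τ, map_inv, map_zpow, hαz, hτz, ← e, e1]
    have hσ := hcommute t' ht'G (commute_of_moves hτZ (hmove t') hτe hσz)
    -- `σ` moves `t' y` by `t' δ`
    have h1 : (t' * τ * t'⁻¹) (t' y) * (t' y)⁻¹ = t' δ := by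
      show t' (τ (t'⁻¹ (t' y))) * (t' y)⁻¹ = _
      rw [show t'⁻¹ (t' y) = y from t'.symm_apply_apply y, hδdef, map_mul, map_inv]
    have h2 : ∀ σ ∈ Subgroup.zpowers τ, ∀ c : C, σ c * c⁻¹ ∈ Subgroup.zpowers z := by
      intro σ hσ'
      obtain ⟨n, hn⟩ := (isOfFinOrder_of_finite τ).mem_powers_iff_mem_zpowers.2 hσ'
      subst hn
      clear hσ'
      intro c
      induction n with
      | zero => simp
      | succ n ih =>
        show (τ ^ (n + 1)) c * c⁻¹ ∈ _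
        rw [pow_succ', MulAut.mul_apply]
        have e : τ ((τ ^ n) c) * c⁻¹ = (τ ((τ ^ n) c) * ((τ ^ n) c)⁻¹) * ((τ ^ n) c * c⁻¹) := by
          group
        rw [e]
        exact mul_mem (hτZ _) ih
    have h3 : t' δ ∈ Subgroup.zpowers z := h1 ▸ h2 _ hσ (t' y)
    have h4 : t' z ∈ Subgroup.zpowers z := by
      obtain ⟨i, hi⟩ : z ∈ Subgroup.zpowers δ := hδgen.ge (Subgroup.mem_zpowers z)
      have e : t' z = t' δ ^ i := by rw [← map_zpow]; exact congrArg t' (hi : δ ^ i = z).symm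
      rw [e]
      exact Subgroup.zpow_mem _ h3 i
    have h5 : t' z * z⁻¹ ∈ Subgroup.zpowers z :=
      mul_mem h4 (inv_mem (Subgroup.mem_zpowers z))
    have hne : t' z * z⁻¹ ≠ 1 := fun he => h (mul_inv_eq_one.1 he)
    have h6 : z ∈ Subgroup.zpowers (α z) := by
      rw [← zpowers_eq_of_prime (by rw [← map_pow, hzp, map_one]) hmem hne,
        zpowers_eq_of_prime hzp h5 hne]
      exact Subgroup.mem_zpowers z
    obtain ⟨i, hi⟩ := h6
    refine h ?_
    rw [← show α z ^ i = z from hi, map_zpow, hfix]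
  intro α hα
  by_cases h1 : τ (α z) = α z
  · exact hA α hα h1
  exfalso
  set t' := α * τ * α⁻¹ with ht'
  by_cases h2 : t' z = z
  · have h3 : τ (α⁻¹ z) = α⁻¹ z := by
      have := congrArg (⇑(α⁻¹ : MulAut C)) h2
      simp only [ht', MulAut.mul_apply] at this
      rwa [show α⁻¹ (α (τ (α⁻¹ z))) = τ (α⁻¹ z) from α.symm_apply_apply _] at this
    have h4 := hA α⁻¹ (inv_mem hα) h3
    rw [inv_inv] at h4
    obtain ⟨j, hj⟩ := h4
    have hj' : τ ^ j = α⁻¹ * τ * α := hj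
    have h7 : (α * τ * α⁻¹) ^ j = τ := by
      rw [conj_zpow, hj']; group
    refine h1 ?_
    have h8 : ∀ n : ℤ, (t' ^ n) (α z) = α z := by
      intro n
      have : t' ∈ MulAction.stabilizer (MulAut C) (α z) := hfix α
      exact Subgroup.zpow_mem _ this n
    rw [← h7]
    exact h8 j
  -- both moved: a torus element
  set z' := α z with hz'
  have ht'G : t' ∈ F.autGroup C := mul_mem (mul_mem hα hτG) (inv_mem hα)
  have hz'p : z' ^ p = 1 := by rw [hz', ← map_pow, hzp, map_one]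
  have hτp' : ∀ (w : MulAut C) (e : C), w e = e → ∀ (n : ℕ) (c d : C), w c = d * c → d ∈ Subgroup.zpowers e →
      (w ^ n) c = d ^ n * c := by
    intro w e he n c d hcd hd
    induction n with
    | zero => simp
    | succ n ih =>
      obtain ⟨i, rfl⟩ := hd
      rw [pow_succ', MulAut.mul_apply, ih, map_mul, map_pow, map_zpow, he, hcd, pow_succ, mul_assoc]
  obtain ⟨t, htG, htz, htz', htfix⟩ : ∃ t ∈ F.autGroup C, t z = z ∧ t z' = z' * z ∧
      ∀ c, τ c = c → t c = c := by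
    have hd : τ z' * z'⁻¹ ∈ Subgroup.zpowers z := hτZ z'
    have hd1 : τ z' * z'⁻¹ ≠ 1 := fun he => h1 (mul_inv_eq_one.1 he)
    have hz0 : z ∈ Subgroup.zpowers (τ z' * z'⁻¹) := by
      rw [zpowers_eq_of_prime hzp hd hd1]; exact Subgroup.mem_zpowers z
    obtain ⟨n, hn⟩ := (isOfFinOrder_of_finite _).mem_powers_iff_mem_zpowers.2 hz0
    refine ⟨τ ^ n, pow_mem hτG n, ?_, ?_, fun c hc => ?_⟩
    · have := hτp' τ z hτz n z 1 (by rw [hτz, one_mul]) (one_mem _)
      rwa [one_pow, one_mul] at this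
    · rw [hτp' τ z hτz n z' _ (inv_mul_cancel_right _ _).symm hd, mul_comm]
      exact congrArg (z' * ·) hn
    · have := hτp' τ z hτz n c 1 (by rw [hc, one_mul]) (one_mem _)
      rwa [one_pow, one_mul] at this
  obtain ⟨u, huG, huz', huz, hufix⟩ : ∃ u ∈ F.autGroup C, u z' = z' ∧ u z = z * z'⁻¹ ∧
      ∀ c, t' c = c → u c = c := by
    have hd : t' z * z⁻¹ ∈ Subgroup.zpowers z' := hmove α z
    have hd1 : t' z * z⁻¹ ≠ 1 := fun he => h2 (mul_inv_eq_one.1 he)
    have hz0 : z'⁻¹ ∈ Subgroup.zpowers (t' z * z⁻¹) := by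
      rw [zpowers_eq_of_prime hz'p hd hd1]; exact inv_mem (Subgroup.mem_zpowers z')
    obtain ⟨n, hn⟩ := (isOfFinOrder_of_finite _).mem_powers_iff_mem_zpowers.2 hz0
    refine ⟨t' ^ n, pow_mem ht'G n, ?_, ?_, fun c hc => ?_⟩
    · have := hτp' t' z' (hfix α) n z' 1 (by rw [hfix α, one_mul]) (one_mem _)
      rwa [one_pow, one_mul] at this
    · rw [hτp' t' z' (hfix α) n z _ (inv_mul_cancel_right _ _).symm hd, mul_comm]
      exact congrArg (z * ·) hn
    · have := hτp' t' z' (hfix α) n c 1 (by rw [hc, one_mul]) (one_mem _)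
      rwa [one_pow, one_mul] at this
  have hwz : (t * u * t) z = z'⁻¹ := by
    show t (u (t z)) = _
    rw [htz, huz, map_mul, map_inv, htz, htz', mul_inv_rev, ← mul_assoc, mul_inv_cancel, one_mul]
  have hwz' : (t * u * t) z' = z := by
    show t (u (t z')) = _
    rw [htz', map_mul u, huz', huz, mul_left_comm, mul_inv_cancel, mul_one, htz]
  set s := (t * u * t) * (t * u * t) with hs
  have hsG : s ∈ F.autGroup C :=
    mul_mem (mul_mem (mul_mem htG huG) htG) (mul_mem (mul_mem htG huG) htG)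
  have hsz : s z = z⁻¹ := by
    show (t * u * t) ((t * u * t) z) = _
    rw [hwz, map_inv, hwz']
  have hsz' : s z' = z'⁻¹ := by
    show (t * u * t) ((t * u * t) z') = _
    rw [hwz', hwz]
  have hsfix : ∀ c, τ c = c → t' c = c → s c = c := by
    intro c hc hc'
    have hw : (t * u * t) c = c := by
      show t (u (t c)) = c
      rw [htfix c hc, hufix c hc', htfix c hc]
    show (t * u * t) ((t * u * t) c) = c
    rw [hw, hw]
  have hsτ : s * τ * s⁻¹ = τ := by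
    rw [mul_inv_eq_iff_eq_mul]
    refine MulEquiv.ext fun c => ?_
    show s (τ c) = τ (s c)
    -- decompose `c`
    have hd : τ z' * z'⁻¹ ∈ Subgroup.zpowers z := hτZ z'
    have hd1 : τ z' * z'⁻¹ ≠ 1 := fun he => h1 (mul_inv_eq_one.1 he)
    obtain ⟨l, hl⟩ : τ c * c⁻¹ ∈ Subgroup.zpowers (τ z' * z'⁻¹) := by
      rw [zpowers_eq_of_prime hzp hd hd1]; exact hτZ c
    have hl' : (τ z' * z'⁻¹) ^ l = τ c * c⁻¹ := hl
    set c1 := c * (z' ^ l)⁻¹ with hc1
    have hτc1 : τ c1 = c1 := by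
      rw [hc1, map_mul, map_inv, map_zpow]
      have h' : τ c * c⁻¹ = τ z' ^ l * (z' ^ l)⁻¹ := by rw [← hl', mul_zpow, inv_zpow]
      rw [← div_eq_mul_inv, ← div_eq_mul_inv, div_eq_div_iff_mul_eq_mul] at h' ⊢
      rw [h', mul_comm]
    have he : t' z * z⁻¹ ∈ Subgroup.zpowers z' := hmove α z
    have he1 : t' z * z⁻¹ ≠ 1 := fun he => h2 (mul_inv_eq_one.1 he)
    obtain ⟨m, hm⟩ : t' c1 * c1⁻¹ ∈ Subgroup.zpowers (t' z * z⁻¹) := by
      rw [zpowers_eq_of_prime hz'p he he1]; exact hmove α c1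
    have hm' : (t' z * z⁻¹) ^ m = t' c1 * c1⁻¹ := hm
    set c2 := c1 * (z ^ m)⁻¹ with hc2
    have ht'c2 : t' c2 = c2 := by
      rw [hc2, map_mul, map_inv, map_zpow]
      have h' : t' c1 * c1⁻¹ = t' z ^ m * (z ^ m)⁻¹ := by rw [← hm', mul_zpow, inv_zpow]
      rw [← div_eq_mul_inv, ← div_eq_mul_inv, div_eq_div_iff_mul_eq_mul] at h' ⊢
      rw [h', mul_comm]
    have hτc2 : τ c2 = c2 := by rw [hc2, map_mul, map_inv, map_zpow, hτz, hτc1]
    have hc : c = c2 * z ^ m * z' ^ l := by rw [hc2, hc1]; group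
    have hsτz' : s (τ z') = (τ z')⁻¹ := by
      obtain ⟨i, hi⟩ := hd
      have e : τ z' = z ^ i * z' := by rw [show z ^ i = τ z' * z'⁻¹ from hi, inv_mul_cancel_right]
      rw [e, map_mul, map_zpow, hsz, hsz', mul_inv, inv_zpow]
    rw [hc]
    simp only [map_mul, map_zpow, hτc2, hτz, hsfix c2 hτc2 ht'c2, hsz, hsz', hsτz', map_inv]
  obtain ⟨ψ, hψ, hxe, hn, he, hmem, hψC⟩ := hext s hsG (by rw [hsτ]; exact hτT)
  rw [hsτ] at he
  have hcen : x⁻¹ * ψ ⟨x, hxe⟩ ∈ C := by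
    refine hcC _ (P.mul_mem (P.inv_mem hx) hmem) fun c hc => ?_
    have h := congrArg Subtype.val (DFunLike.congr_fun he (⟨c, hc⟩ : C))
    rw [hτapp, conjAut_apply] at h
    calc x⁻¹ * ψ ⟨x, hxe⟩ * c = x⁻¹ * (ψ ⟨x, hxe⟩ * c * (ψ ⟨x, hxe⟩)⁻¹) * ψ ⟨x, hxe⟩ := by group
      _ = x⁻¹ * (x * c * x⁻¹) * ψ ⟨x, hxe⟩ := by rw [h]
      _ = c * (x⁻¹ * ψ ⟨x, hxe⟩) := by group
  have hzE : (z : Ω) ∈ extender S C (autHom s) :=
    le_extender (autGroup_hom_mem hCS hsG) z.2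
  have h9 : ψ ⟨(z : Ω), hzE⟩ = x ^ p := by
    have e : (⟨(z : Ω), hzE⟩ : extender S C (autHom s)) = ⟨x, hxe⟩ ^ p := Subtype.ext (by simp [hz])
    rw [e, map_pow]
    have := hxpc _ hcen
    rwa [mul_inv_cancel_left] at this
  rw [hψC _ z.2 hzE, ← hz] at h9
  have h10 : s z = z := Subtype.ext h9
  rw [hsz] at h10
  refine hz1 ?_
  have hzz : z ^ 2 = 1 := by rw [pow_two]; nth_rw 1 [← h10]; exact inv_mul_cancel z
  have hcop : Nat.Coprime 2 p := (Nat.coprime_primes Nat.prime_two Fact.out).2 (Ne.symm hp)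
  rw [← orderOf_eq_one_iff]
  exact Nat.eq_one_of_dvd_coprimes hcop (orderOf_dvd_of_pow_eq_one hzz) (orderOf_dvd_of_pow_eq_one hzp)

end Cfsg.Agent.Lib.Resistant
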